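import Cfsg.Agent.H830.B57.Str

set_option autoImplicit false

open Subgroup

namespace Cfsg.Agent.H223.B57

open Cfsg.Agent.H830.B57
open scoped commutatorElement

section FV

variable {p : ℕ} [Fact p.Prime] {V : Type} [AddCommGroup V] [Module (ZMod p) V]

/-- the fixed space -/
def FV (x : V ≃ₗ[ZMod p] V) : Submodule (ZMod p) V where
  carrier := {v | x v = v}
  add_mem' := by
    intro a b ha hb
    simp only [Set.mem_ofPred_eq] at *
    rw [map_add, ha, hb]
  zero_mem' := by simp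
  smul_mem' := by
    intro c v hv
    simp only [Set.mem_ofPred_eq] at *
    rw [map_smul, hv]

theorem mem_FV {x : V ≃ₗ[ZMod p] V} {v : V} : v ∈ FV x ↔ x v = v := Iff.rfl

theorem card_FV (x : V ≃ₗ[ZMod p] V) : Nat.card {v : V // x v = v} = Nat.card (FV x) := rfl

/-- `|A| |B| ≤ |V| |A ∩ B|` -/
theorem card_mul_le [Finite V] (A B : Submodule (ZMod p) V) :
    Nat.card A * Nat.card B ≤ Nat.card V * Nat.card (A ⊓ B : Submodule (ZMod p) V) := by
  have hp := (Fact.out : p.Prime)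
  rw [Module.natCard_eq_pow_finrank (K := ZMod p) (V := A), Module.natCard_eq_pow_finrank (K := ZMod p) (V := B),
    Module.natCard_eq_pow_finrank (K := ZMod p) (V := V),
    Module.natCard_eq_pow_finrank (K := ZMod p) (V := (A ⊓ B : Submodule (ZMod p) V)), ← pow_add, ← pow_add]
  apply Nat.pow_le_pow_right
  · rw [Nat.card_zmod]; exact hp.pos
  · have h1 := Submodule.finrank_sup_add_finrank_inf_eq A B
    have h2 := Submodule.finrank_le (A ⊔ B)
    omega

/-- the image of a submodule -/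
def im (g : V ≃ₗ[ZMod p] V) (W : Submodule (ZMod p) V) : Submodule (ZMod p) V :=
  W.map (g : V →ₗ[ZMod p] V)

theorem mem_im {g : V ≃ₗ[ZMod p] V} {W : Submodule (ZMod p) V} {v : V} : v ∈ im g W ↔ g⁻¹ v ∈ W := by
  unfold im
  rw [Submodule.mem_map]
  constructor
  · rintro ⟨w, hw, rfl⟩
    have : g⁻¹ (g w) = w := by
      rw [← LinearEquiv.mul_apply, inv_mul_cancel, LinearEquiv.coe_one, id]
    change g⁻¹ (g w) ∈ W
    rw [this]; exact hw
  · intro h
    refine ⟨_, h, ?_⟩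
    change g (g⁻¹ v) = v
    rw [← LinearEquiv.mul_apply, mul_inv_cancel, LinearEquiv.coe_one, id]

theorem card_im (g : V ≃ₗ[ZMod p] V) (W : Submodule (ZMod p) V) : Nat.card (im g W) = Nat.card W := by
  unfold im
  exact Nat.card_congr (LinearEquiv.submoduleMap g W).symm.toEquiv

/-- an element fixing `v` and `g⁻¹ v` gives a commutator fixing `v` -/
theorem comm_fix {x g : V ≃ₗ[ZMod p] V} {v : V} (h1 : x v = v) (h2 : x (g⁻¹ v) = g⁻¹ v) :
    (x * g * x⁻¹ * g⁻¹) v = v := by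
  have h3 : x⁻¹ (g⁻¹ v) = g⁻¹ v := by
    have := congrArg (x⁻¹ : V ≃ₗ[ZMod p] V) h2
    rw [← LinearEquiv.mul_apply, inv_mul_cancel, LinearEquiv.coe_one, id] at this
    exact this.symm
  rw [LinearEquiv.mul_apply, LinearEquiv.mul_apply, LinearEquiv.mul_apply, h3, ← LinearEquiv.mul_apply g g⁻¹,
    mul_inv_cancel, LinearEquiv.coe_one, id, h1]

theorem comm_fix' {g d : V ≃ₗ[ZMod p] V} {v : V} (h1 : d v = v) (h2 : d (g⁻¹ v) = g⁻¹ v) :
    (g * d * g⁻¹ * d⁻¹) v = v := by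
  have h3 : d⁻¹ v = v := by
    have := congrArg (d⁻¹ : V ≃ₗ[ZMod p] V) h1
    rw [← LinearEquiv.mul_apply, inv_mul_cancel, LinearEquiv.coe_one, id] at this
    exact this.symm
  rw [LinearEquiv.mul_apply, LinearEquiv.mul_apply, LinearEquiv.mul_apply, h3, h2, ← LinearEquiv.mul_apply g g⁻¹,
    mul_inv_cancel, LinearEquiv.coe_one, id]

/-- `|C_V(x)|² ≤ |V| |C_V([x,g])|` -/
theorem sq_le [Finite V] (x g : V ≃ₗ[ZMod p] V) :
    Nat.card (FV x) ^ 2 ≤ Nat.card V * Nat.card (FV (x * g * x⁻¹ * g⁻¹)) := by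
  have h1 := card_mul_le (FV x) (im g (FV x))
  rw [card_im] at h1
  have h2 : Nat.card (FV x ⊓ im g (FV x) : Submodule (ZMod p) V) ≤ Nat.card (FV (x * g * x⁻¹ * g⁻¹)) := by
    have hle : (FV x ⊓ im g (FV x) : Submodule (ZMod p) V) ≤ FV (x * g * x⁻¹ * g⁻¹) := by
      intro v hv
      obtain ⟨ha, hb⟩ := Submodule.mem_inf.1 hv
      rw [mem_im] at hb
      exact comm_fix ha hb
    exact Nat.card_le_card_of_injective (Submodule.inclusion hle) (Submodule.inclusion_injective hle)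
  calc Nat.card (FV x) ^ 2 = Nat.card (FV x) * Nat.card (FV x) := sq _
    _ ≤ _ := h1
    _ ≤ _ := Nat.mul_le_mul_left _ h2

theorem card_FV_of_semireg [Finite V] {y : V ≃ₗ[ZMod p] V} (h : ∀ v : V, y v = v → v = 0) : Nat.card (FV y) = 1 := by
  rw [Nat.card_eq_one_iff_unique]
  refine ⟨⟨fun a b => ?_⟩, ⟨0⟩⟩
  ext
  rw [h _ a.2, h _ b.2]

theorem card_le_card [Finite V] {A B : Submodule (ZMod p) V} (h : A ≤ B) : Nat.card A ≤ Nat.card B :=
  Nat.card_le_card_of_injective (Submodule.inclusion h) (Submodule.inclusion_injective h)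

end FV

/-! ### the group theoretic part -/

/-- In a quasisimple group a non-central normal subgroup is everything. -/
theorem quasi_normal {E : Type*} [Group E] (hperf : commutator E = ⊤) (hsimp : IsSimpleGroup (E ⧸ center E))
    (K : Subgroup E) [K.Normal] (hK : ¬ K ≤ center E) : K = ⊤ := by
  have h1 : K.map (QuotientGroup.mk' (center E)) = ⊤ := by
    have : (K.map (QuotientGroup.mk' (center E))).Normal :=
      Subgroup.Normal.map inferInstance _ (QuotientGroup.mk'_surjective _)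
    rcases hsimp.eq_bot_or_eq_top_of_normal (K.map (QuotientGroup.mk' (center E))) this with h | h
    · exfalso
      apply hK
      intro k hk
      have : QuotientGroup.mk' (center E) k ∈ K.map (QuotientGroup.mk' (center E)) := Subgroup.mem_map_of_mem _ hk
      rw [h, Subgroup.mem_bot] at this
      exact (QuotientGroup.eq_one_iff k).1 this
    · exact h
  have h2 : ∀ e : E, ∃ k ∈ K, ∃ z ∈ center E, e = k * z := by
    intro e
    have : QuotientGroup.mk' (center E) e ∈ K.map (QuotientGroup.mk' (center E)) := by rw [h1]; trivial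
    obtain ⟨k, hk, hke⟩ := this
    refine ⟨k, hk, k⁻¹ * e, ?_, by group⟩
    exact QuotientGroup.eq.1 hke
  rw [eq_top_iff, ← hperf, commutator_def, Subgroup.commutator_le]
  rintro a - b -
  obtain ⟨k, hk, z, hz, rfl⟩ := h2 a
  obtain ⟨l, hl, w, hw, rfl⟩ := h2 b
  have : ⁅k * z, l * w⁆ = ⁅k, l⁆ := by
    rw [Subgroup.mem_center_iff] at hz hw
    simp only [commutatorElement_def, mul_inv_rev]
    calc k * z * (l * w) * (z⁻¹ * k⁻¹) * (w⁻¹ * l⁻¹)
        = k * (z * l) * w * z⁻¹ * k⁻¹ * w⁻¹ * l⁻¹ := by group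
      _ = k * (l * z) * w * z⁻¹ * k⁻¹ * w⁻¹ * l⁻¹ := by rw [hz l]
      _ = k * l * (z * w) * z⁻¹ * k⁻¹ * w⁻¹ * l⁻¹ := by group
      _ = k * l * (w * z) * z⁻¹ * k⁻¹ * w⁻¹ * l⁻¹ := by rw [hz w]
      _ = k * l * (w * k⁻¹) * w⁻¹ * l⁻¹ := by group
      _ = k * l * (k⁻¹ * w) * w⁻¹ * l⁻¹ := by rw [hw k⁻¹]
      _ = k * l * k⁻¹ * l⁻¹ := by group
  rw [this]
  exact K.mul_mem (K.mul_mem (K.mul_mem hk hl) (K.inv_mem hk)) (K.inv_mem hl)

/-- the commutators with a noncentral element generate a quasisimple group -/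
theorem closure_comm {E : Type*} [Group E] (hperf : commutator E = ⊤) (hsimp : IsSimpleGroup (E ⧸ center E))
    (g : E) (hg : g ∉ center E) : closure (Set.range fun h : E => g * h * g⁻¹ * h⁻¹) = ⊤ := by
  set S := Set.range fun h : E => g * h * g⁻¹ * h⁻¹ with hS
  have hnorm : (closure S).Normal := by
    have key : ∀ k : E, ∀ s ∈ closure S, k * s * k⁻¹ ∈ closure S := by
      intro k s hs
      induction hs using closure_induction with
      | mem s hs =>
        obtain ⟨h, rfl⟩ := hs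
        have e : k * (g * h * g⁻¹ * h⁻¹) * k⁻¹ = (g * k * g⁻¹ * k⁻¹)⁻¹ * (g * (k * h) * g⁻¹ * (k * h)⁻¹) := by group
        change k * (g * h * g⁻¹ * h⁻¹) * k⁻¹ ∈ closure S
        rw [e]
        exact (closure S).mul_mem ((closure S).inv_mem (subset_closure ⟨k, rfl⟩)) (subset_closure ⟨k * h, rfl⟩)
      | one => simp
      | mul a b _ _ ha hb =>
        have : k * (a * b) * k⁻¹ = (k * a * k⁻¹) * (k * b * k⁻¹) := by group
        rw [this]; exact mul_mem ha hb
      | inv a _ ha =>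
        have : k * a⁻¹ * k⁻¹ = (k * a * k⁻¹)⁻¹ := by group
        rw [this]; exact inv_mem ha
    exact ⟨fun s hs k => key k s hs⟩
  apply quasi_normal hperf hsimp
  intro hle
  -- `h ↦ [g,h]` is a homomorphism to the centre
  let f : E →* center E :=
    { toFun := fun h => ⟨g * h * g⁻¹ * h⁻¹, hle (subset_closure ⟨h, rfl⟩)⟩
      map_one' := by ext; simp
      map_mul' := by
        intro k h
        ext
        have hc : g * h * g⁻¹ * h⁻¹ ∈ center E := hle (subset_closure ⟨h, rfl⟩)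
        rw [Subgroup.mem_center_iff] at hc
        change g * (k * h) * g⁻¹ * (k * h)⁻¹ = (g * k * g⁻¹ * k⁻¹) * (g * h * g⁻¹ * h⁻¹)
        have e : g * (k * h) * g⁻¹ * (k * h)⁻¹ = (g * k * g⁻¹ * k⁻¹) * (k * (g * h * g⁻¹ * h⁻¹)) * k⁻¹ := by group
        rw [e, hc k]; group }
  have htop : (⊤ : Subgroup E) ≤ f.ker := by
    rw [← hperf, commutator_def, Subgroup.commutator_le]
    rintro a - b -
    have hc : f a * f b = f b * f a := by
      ext
      exact ((Subgroup.mem_center_iff.1 (f a).2) (f b : E)).symm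
    rw [MonoidHom.mem_ker, commutatorElement_def, map_mul, map_mul, map_mul, map_inv, map_inv, hc]
    group
  apply hg
  rw [Subgroup.mem_center_iff]
  intro h
  have : f h = 1 := htop (mem_top h)
  have h3 : g * h * g⁻¹ * h⁻¹ = 1 := congrArg Subtype.val this
  have h4 : g * h = h * g := by
    have := congrArg (fun z => z * h * g) h3
    simpa [mul_assoc] using this
  exact h4.symm

/-! ### the theorem modulo D1, D2 -/

section Main

variable {p : ℕ} [Fact p.Prime] {V : Type} [AddCommGroup V] [Module (ZMod p) V]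

theorem big_support_of [Finite V] (X : Subgroup (V ≃ₗ[ZMod p] V))
    (A C R : Subgroup (V ≃ₗ[ZMod p] V)) (t : ℕ) (E : Fin t → Subgroup (V ≃ₗ[ZMod p] V))
    (hS : Str X A C R t E) (h2 : ∀ i, ∃ u v : E i ⧸ center (E i), closure {u, v} = ⊤)
    (hA : ∀ a ∈ A, a ≠ 1 → ∀ v : V, a v = v → v = 0)
    (hE : ∀ i, ∀ v : V, (∀ e ∈ E i, e v = v) → v = 0)
    (x : V ≃ₗ[ZMod p] V) (hx : x ∈ X)
    (hcase : (∃ a ∈ A, x * a ≠ a * x) ∨ (∃ r ∈ R, x * r ≠ r * x) ∨
      (∃ i, ∃ y ∈ E i, x * y * x⁻¹ ∉ E i)) :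
    Nat.card {v : V // x v = v} ^ 6 ≤ Nat.card V ^ 5 := by
  rw [card_FV]
  set n := Nat.card V with hn
  have hn1 : 1 ≤ n := Nat.card_pos
  -- two simple consequences
  have fin1 : Nat.card (FV x) ^ 2 ≤ n → Nat.card (FV x) ^ 6 ≤ n ^ 5 := by
    intro h
    calc Nat.card (FV x) ^ 6 = (Nat.card (FV x) ^ 2) ^ 3 := by ring
      _ ≤ n ^ 3 := Nat.pow_le_pow_left h 3
      _ ≤ n ^ 5 := Nat.pow_le_pow_right hn1 (by norm_num)
  have fin2 : Nat.card (FV x) ^ 4 ≤ n ^ 3 → Nat.card (FV x) ^ 6 ≤ n ^ 5 := by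
    intro h
    have h3 : (Nat.card (FV x) ^ 6) ^ 2 ≤ (n ^ 5) ^ 2 := by
      calc (Nat.card (FV x) ^ 6) ^ 2 = (Nat.card (FV x) ^ 4) ^ 3 := by ring
        _ ≤ (n ^ 3) ^ 3 := Nat.pow_le_pow_left h 3
        _ = n ^ 9 := by ring
        _ ≤ n ^ 10 := Nat.pow_le_pow_right hn1 (by norm_num)
        _ = (n ^ 5) ^ 2 := by ring
    exact (Nat.pow_le_pow_iff_left (by norm_num)).1 h3
  have sqA : ∀ (z g : V ≃ₗ[ZMod p] V), z * g * z⁻¹ * g⁻¹ ∈ A → z * g ≠ g * z → Nat.card (FV z) ^ 2 ≤ n := by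
    intro z g hmem hne
    have hne' : z * g * z⁻¹ * g⁻¹ ≠ 1 := by
      intro h
      apply hne
      have := congrArg (fun w => w * g * z) h
      simpa [mul_assoc] using this
    have h := sq_le z g
    rwa [card_FV_of_semireg (hA _ hmem hne'), mul_one] at h
  rcases hcase with ⟨a, ha, hxa⟩ | ⟨r, hr, hxr⟩ | ⟨i, y0, hy0, hxy⟩
  · apply fin1
    exact sqA x a (A.mul_mem (hS.Anorm x hx a ha) (A.inv_mem ha)) hxa
  · set y := x * r * x⁻¹ * r⁻¹ with hy
    have hyR : y ∈ R := R.mul_mem (hS.Rnorm x hx r hr) (R.inv_mem hr)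
    by_cases hyA : y ∈ A
    · apply fin1
      exact sqA x r hyA hxr
    · have : ∃ r' ∈ R, y * r' ≠ r' * y := by
        by_contra hcon
        push Not at hcon
        exact hyA (hS.Rcent y hyR hcon)
      obtain ⟨r', hr', hyr'⟩ := this
      apply fin2
      have h1 := sqA y r' (hS.Rcomm y hyR r' hr') hyr'
      have h3 := sq_le x r
      calc Nat.card (FV x) ^ 4 = (Nat.card (FV x) ^ 2) ^ 2 := by ring
        _ ≤ (n * Nat.card (FV y)) ^ 2 := Nat.pow_le_pow_left h3 2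
        _ = n ^ 2 * Nat.card (FV y) ^ 2 := by ring
        _ ≤ n ^ 2 * n := Nat.mul_le_mul_left _ h1
        _ = n ^ 3 := by ring
  · obtain ⟨j, hj⟩ := hS.Eperm x hx i
    have hji : j ≠ i := by
      rintro rfl
      exact hxy ((hj y0).1 hy0)
    obtain ⟨u, v, huv⟩ := h2 i
    obtain ⟨e, rfl⟩ := QuotientGroup.mk_surjective u
    obtain ⟨f, rfl⟩ := QuotientGroup.mk_surjective v
    set y := x * (e : V ≃ₗ[ZMod p] V) * x⁻¹ * (e : V ≃ₗ[ZMod p] V)⁻¹ with hy
    set y' := x * (f : V ≃ₗ[ZMod p] V) * x⁻¹ * (f : V ≃ₗ[ZMod p] V)⁻¹ with hy'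
    set W := FV y ⊓ FV y' with hW
    -- `|C_V(x)|³ ≤ |V|² |W|`
    have hc1 : Nat.card (FV x) ^ 3 ≤ n ^ 2 * Nat.card W := by
      have h1 := card_mul_le (FV x) (im (e : V ≃ₗ[ZMod p] V) (FV x))
      have h3 := card_mul_le (FV x ⊓ im (e : V ≃ₗ[ZMod p] V) (FV x)) (im (f : V ≃ₗ[ZMod p] V) (FV x))
      rw [card_im] at h1 h3
      have h4 : Nat.card (FV x ⊓ im (e : V ≃ₗ[ZMod p] V) (FV x) ⊓ im (f : V ≃ₗ[ZMod p] V) (FV x) :
          Submodule (ZMod p) V) ≤ Nat.card W := by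
        apply card_le_card
        intro v hv
        obtain ⟨hv1, hv2⟩ := Submodule.mem_inf.1 hv
        obtain ⟨hv3, hv4⟩ := Submodule.mem_inf.1 hv1
        rw [mem_im] at hv2 hv4
        exact Submodule.mem_inf.2 ⟨comm_fix hv3 hv4, comm_fix hv3 hv2⟩
      calc Nat.card (FV x) ^ 3 = (Nat.card (FV x) * Nat.card (FV x)) * Nat.card (FV x) := by ring
        _ ≤ (n * Nat.card (FV x ⊓ im (e : V ≃ₗ[ZMod p] V) (FV x) : Submodule (ZMod p) V)) * Nat.card (FV x) :=
            Nat.mul_le_mul_right _ h1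
        _ = n * (Nat.card (FV x ⊓ im (e : V ≃ₗ[ZMod p] V) (FV x) : Submodule (ZMod p) V) * Nat.card (FV x)) := by ring
        _ ≤ n * (n * Nat.card W) := Nat.mul_le_mul_left _ (h3.trans (Nat.mul_le_mul_left _ h4))
        _ = n ^ 2 * Nat.card W := by ring
    -- a noncentral element of `E i`
    obtain ⟨a, b, hab⟩ := hS.Enab i
    obtain ⟨g, rfl⟩ := QuotientGroup.mk_surjective a
    obtain ⟨b, rfl⟩ := QuotientGroup.mk_surjective b
    have hg : g ∉ center (E i) := by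
      intro h
      rw [Subgroup.mem_center_iff] at h
      apply hab
      rw [← QuotientGroup.mk_mul, ← QuotientGroup.mk_mul, h b]
    -- the projection of `D` to `E i / Z`
    let D : Subgroup (V ≃ₗ[ZMod p] V) := closure {y, y'}
    have hproj : ∀ q : E i ⧸ center (E i), ∃ d ∈ D, ∃ d2 ∈ E j, ∃ d1 : E i, d = d2 * (d1 : V ≃ₗ[ZMod p] V) ∧
        (QuotientGroup.mk d1 : E i ⧸ center (E i)) = q := by
      intro q
      have hq : q ∈ closure ({(QuotientGroup.mk e : E i ⧸ center (E i)), QuotientGroup.mk f} : Set _) := by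
        rw [huv]; trivial
      induction hq using closure_induction with
      | mem s hs =>
        rcases hs with rfl | rfl
        · refine ⟨y⁻¹, inv_mem (subset_closure (by simp)), (x * (e : V ≃ₗ[ZMod p] V) * x⁻¹)⁻¹,
            inv_mem ((hj _).1 e.2), e, ?_, rfl⟩
          have hcm : (x * (e : V ≃ₗ[ZMod p] V) * x⁻¹) * (e : V ≃ₗ[ZMod p] V) =
              (e : V ≃ₗ[ZMod p] V) * (x * (e : V ≃ₗ[ZMod p] V) * x⁻¹) :=
            hS.Ecomm j i hji _ ((hj _).1 e.2) _ e.2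
          have hy2 : y = (x * (e : V ≃ₗ[ZMod p] V) * x⁻¹) * (e : V ≃ₗ[ZMod p] V)⁻¹ := rfl
          rw [hy2, mul_inv_rev, inv_inv]
          rw [eq_inv_mul_iff_mul_eq, ← mul_assoc, hcm, mul_assoc, mul_inv_cancel, mul_one]
        · refine ⟨y'⁻¹, inv_mem (subset_closure (by simp)), (x * (f : V ≃ₗ[ZMod p] V) * x⁻¹)⁻¹,
            inv_mem ((hj _).1 f.2), f, ?_, rfl⟩
          have hcm : (x * (f : V ≃ₗ[ZMod p] V) * x⁻¹) * (f : V ≃ₗ[ZMod p] V) =
              (f : V ≃ₗ[ZMod p] V) * (x * (f : V ≃ₗ[ZMod p] V) * x⁻¹) :=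
            hS.Ecomm j i hji _ ((hj _).1 f.2) _ f.2
          have hy2 : y' = (x * (f : V ≃ₗ[ZMod p] V) * x⁻¹) * (f : V ≃ₗ[ZMod p] V)⁻¹ := rfl
          rw [hy2, mul_inv_rev, inv_inv]
          rw [eq_inv_mul_iff_mul_eq, ← mul_assoc, hcm, mul_assoc, mul_inv_cancel, mul_one]
      | one => exact ⟨1, one_mem _, 1, one_mem _, 1, by simp, by simp⟩
      | mul s s' _ _ hs hs' =>
        obtain ⟨d, hd, d2, hd2, d1, rfl, rfl⟩ := hs
        obtain ⟨c, hc, c2, hc2, c1, rfl, rfl⟩ := hs'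
        refine ⟨_, mul_mem hd hc, d2 * c2, mul_mem hd2 hc2, d1 * c1, ?_, by rw [QuotientGroup.mk_mul]⟩
        have hcm := hS.Ecomm j i hji c2 hc2 _ d1.2
        rw [Subgroup.coe_mul]
        calc d2 * (d1 : V ≃ₗ[ZMod p] V) * (c2 * (c1 : V ≃ₗ[ZMod p] V))
            = d2 * ((d1 : V ≃ₗ[ZMod p] V) * c2) * (c1 : V ≃ₗ[ZMod p] V) := by group
          _ = d2 * (c2 * (d1 : V ≃ₗ[ZMod p] V)) * (c1 : V ≃ₗ[ZMod p] V) := by rw [hcm]
          _ = d2 * c2 * ((d1 : V ≃ₗ[ZMod p] V) * (c1 : V ≃ₗ[ZMod p] V)) := by group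
      | inv s _ hs =>
        obtain ⟨d, hd, d2, hd2, d1, rfl, rfl⟩ := hs
        refine ⟨_, inv_mem hd, d2⁻¹, inv_mem hd2, d1⁻¹, ?_, by rw [QuotientGroup.mk_inv]⟩
        have hcm := hS.Ecomm j i hji d2 hd2 _ d1.2
        rw [hcm, mul_inv_rev, Subgroup.coe_inv]
    -- `W ∩ g W = 0`
    have hWg : Nat.card (W ⊓ im (g : V ≃ₗ[ZMod p] V) W : Submodule (ZMod p) V) = 1 := by
      rw [Nat.card_eq_one_iff_unique]
      refine ⟨⟨fun s s' => ?_⟩, ⟨0⟩⟩
      have hzero : ∀ w ∈ (W ⊓ im (g : V ≃ₗ[ZMod p] V) W : Submodule (ZMod p) V), w = 0 := by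
        intro w hw
        obtain ⟨hw1, hw2⟩ := Submodule.mem_inf.1 hw
        rw [mem_im] at hw2
        -- all of `D` fixes `w` and `g⁻¹ w`
        have hfix : ∀ (z : V), z ∈ W → ∀ d ∈ D, d z = z := by
          intro z hz d hd
          have hle : D ≤ (MulAction.stabilizer (V ≃ₗ[ZMod p] V) z) := by
            rw [closure_le]
            rintro s (rfl | rfl)
            · exact (Submodule.mem_inf.1 hz).1
            · exact (Submodule.mem_inf.1 hz).2
          exact hle hd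
        apply hE i
        intro h hh
        have hall : (⟨h, hh⟩ : E i) ∈ closure (Set.range fun h : E i => g * h * g⁻¹ * h⁻¹) := by
          rw [closure_comm (hS.Eperf i) (hS.Esimp i) g hg]; trivial
        have hst : ∀ k ∈ closure (Set.range fun h : E i => g * h * g⁻¹ * h⁻¹),
            (k : V ≃ₗ[ZMod p] V) w = w := by
          intro k hk
          have hle : closure (Set.range fun h : E i => g * h * g⁻¹ * h⁻¹) ≤
              (MulAction.stabilizer (V ≃ₗ[ZMod p] V) w).subgroupOf (E i) := by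
            rw [closure_le]
            rintro s ⟨l, rfl⟩
            change ((g * l * g⁻¹ * l⁻¹ : E i) : V ≃ₗ[ZMod p] V) w = w
            obtain ⟨d, hd, d2, hd2, d1, hdd, hq⟩ := hproj (QuotientGroup.mk l)
            have h5 := comm_fix' (g := (g : V ≃ₗ[ZMod p] V)) (hfix w hw1 d hd) (hfix _ hw2 d hd)
            -- `[g,d] = [g,d1] = [g,l]`
            have hc2 := hS.Ecomm j i hji d2 hd2 _ g.2
            have hcd : d2 * ((g * d1 * g⁻¹ * d1⁻¹ : E i) : V ≃ₗ[ZMod p] V) =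
                ((g * d1 * g⁻¹ * d1⁻¹ : E i) : V ≃ₗ[ZMod p] V) * d2 :=
              hS.Ecomm j i hji d2 hd2 _ (g * d1 * g⁻¹ * d1⁻¹ : E i).2
            have e1 : (g : V ≃ₗ[ZMod p] V) * d * (g : V ≃ₗ[ZMod p] V)⁻¹ * d⁻¹ =
                ((g * d1 * g⁻¹ * d1⁻¹ : E i) : V ≃ₗ[ZMod p] V) := by
              have : (g : V ≃ₗ[ZMod p] V) * d * (g : V ≃ₗ[ZMod p] V)⁻¹ * d⁻¹ =
                  d2 * ((g * d1 * g⁻¹ * d1⁻¹ : E i) : V ≃ₗ[ZMod p] V) * d2⁻¹ := by
                rw [hdd]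
                push_cast
                calc (g : V ≃ₗ[ZMod p] V) * (d2 * (d1 : V ≃ₗ[ZMod p] V)) * (g : V ≃ₗ[ZMod p] V)⁻¹ *
                    (d2 * (d1 : V ≃ₗ[ZMod p] V))⁻¹
                    = ((g : V ≃ₗ[ZMod p] V) * d2) * (d1 : V ≃ₗ[ZMod p] V) * (g : V ≃ₗ[ZMod p] V)⁻¹ *
                      (d2 * (d1 : V ≃ₗ[ZMod p] V))⁻¹ := by group
                  _ = (d2 * (g : V ≃ₗ[ZMod p] V)) * (d1 : V ≃ₗ[ZMod p] V) * (g : V ≃ₗ[ZMod p] V)⁻¹ *
                      (d2 * (d1 : V ≃ₗ[ZMod p] V))⁻¹ := by rw [hc2]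
                  _ = d2 * ((g : V ≃ₗ[ZMod p] V) * (d1 : V ≃ₗ[ZMod p] V) * (g : V ≃ₗ[ZMod p] V)⁻¹ *
                      (d1 : V ≃ₗ[ZMod p] V)⁻¹) * d2⁻¹ := by group
              rw [this, hcd, mul_inv_cancel_right]
            have hz : d1⁻¹ * l ∈ center (E i) := QuotientGroup.eq.1 hq
            rw [Subgroup.mem_center_iff] at hz
            have e2 : g * l * g⁻¹ * l⁻¹ = g * d1 * g⁻¹ * d1⁻¹ := by
              calc g * l * g⁻¹ * l⁻¹ = g * d1 * ((d1⁻¹ * l) * g⁻¹) * l⁻¹ := by group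
                _ = g * d1 * (g⁻¹ * (d1⁻¹ * l)) * l⁻¹ := by rw [hz g⁻¹]
                _ = g * d1 * g⁻¹ * d1⁻¹ := by group
            rw [e2, ← e1]
            exact h5
          exact hle hk
        exact hst _ hall
      ext
      rw [hzero _ s.2, hzero _ s'.2]
    have hc2 : Nat.card W ^ 2 ≤ n := by
      have h1 := card_mul_le W (im (g : V ≃ₗ[ZMod p] V) W)
      rw [card_im, hWg, mul_one] at h1
      rw [sq]; exact h1
    calc Nat.card (FV x) ^ 6 = (Nat.card (FV x) ^ 3) ^ 2 := by ring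
      _ ≤ (n ^ 2 * Nat.card W) ^ 2 := Nat.pow_le_pow_left hc1 2
      _ = n ^ 4 * Nat.card W ^ 2 := by ring
      _ ≤ n ^ 4 * n := Nat.mul_le_mul_left _ hc2
      _ = n ^ 5 := by ring

end Main

end Cfsg.Agent.H223.B57
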