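import Cfsg.Agent.H223.B57.BigSupport

set_option autoImplicit false

open Subgroup

namespace Cfsg.Agent.H223.B57

open Cfsg.Agent.H830.B57

variable {p : ℕ} [Fact p.Prime] {V : Type} [AddCommGroup V] [Module (ZMod p) V]

/-- D1 as a hypothesis -/
def HD1 (X : Subgroup (V ≃ₗ[ZMod p] V)) : Prop :=
  ∀ (Y : Subgroup (V ≃ₗ[ZMod p] V)), Y ≤ X → (∀ x ∈ X, ∀ y ∈ Y, x * y * x⁻¹ ∈ Y) →
    ∃ (U : Type) (_ : AddCommGroup U) (_ : Module (ZMod p) U) (M : ℕ)
      (ρ : Y →* (U ≃ₗ[ZMod p] U)) (φ : V ≃ₗ[ZMod p] (Fin M → U)), HomDec Y M ρ φ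

/-- components have no fixed vectors -/
theorem comp_fix (X : Subgroup (V ≃ₗ[ZMod p] V)) (hD1 : HD1 X)
    (A C R : Subgroup (V ≃ₗ[ZMod p] V)) (t : ℕ) (E : Fin t → Subgroup (V ≃ₗ[ZMod p] V))
    (hS : Str X A C R t E) (i : Fin t) (v : V) (hv : ∀ e ∈ E i, e v = v) : v = 0 := by
  set Y : Subgroup (V ≃ₗ[ZMod p] V) := ⨆ k, E k with hY
  have hEY : ∀ k, E k ≤ Y := fun k => le_iSup E k
  have hYX : Y ≤ X := iSup_le fun k => (hS.EC k).trans hS.CX
  have hYn : ∀ x ∈ X, ∀ y ∈ Y, x * y * x⁻¹ ∈ Y := by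
    intro x hx y hy
    have hle : Y ≤ Y.comap (MulAut.conj x).toMonoidHom := by
      refine iSup_le fun k => ?_
      obtain ⟨j, hj⟩ := hS.Eperm x hx k
      intro e he
      exact hEY j ((hj e).1 he)
    exact hle hy
  -- `E i` is normal in `Y`
  have hEn : ∀ y ∈ Y, ∀ e ∈ E i, y * e * y⁻¹ ∈ E i := by
    intro y hy
    have hle : Y ≤ Subgroup.normalizer (E i : Set (V ≃ₗ[ZMod p] V)) := by
      refine iSup_le fun k => ?_
      by_cases hk : k = i
      · subst hk; exact le_normalizer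
      · intro f hf
        rw [mem_normalizer_iff]
        have hcm : ∀ e ∈ E i, f * e * f⁻¹ = e := by
          intro e he
          rw [hS.Ecomm k i hk f hf e he, mul_inv_cancel_right]
        intro e
        constructor
        · intro he
          rw [hcm e he]; exact he
        · intro he
          have h1 := hcm _ he
          have h2 : e = f * e * f⁻¹ := by
            have := congrArg (fun z => f⁻¹ * z * f) h1
            simp only [mul_assoc, inv_mul_cancel_left, inv_mul_cancel, mul_one] at this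
            rw [← mul_assoc] at this
            exact this.symm
          rw [h2]; exact he
    intro e he
    exact (mem_normalizer_iff.1 (hle hy) e).1 he
  obtain ⟨U, _, _, M, ρ, φ, hD⟩ := hD1 Y hYX hYn
  let W : Submodule (ZMod p) U :=
    { carrier := {u | ∀ e : Y, (e : V ≃ₗ[ZMod p] V) ∈ E i → ρ e u = u}
      add_mem' := by
        intro a b ha hb e he
        rw [map_add, ha e he, hb e he]
      zero_mem' := by
        intro e he
        rw [map_zero]
      smul_mem' := by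
        intro c a ha e he
        rw [map_smul, ha e he] }
  have hWinv : ∀ (e : Y), ∀ w ∈ W, ρ e w ∈ W := by
    intro y w hw e he
    have h1 : (((y⁻¹ * e * y : Y)) : V ≃ₗ[ZMod p] V) ∈ E i := by
      have := hEn (y⁻¹ : Y) (y⁻¹ : Y).2 e he
      push_cast at this ⊢
      rwa [inv_inv] at this
    have h2 := hw _ h1
    have h3 : ρ y (ρ (y⁻¹ * e * y) w) = ρ y w := by rw [h2]
    rw [← LinearEquiv.mul_apply, ← map_mul] at h3
    have h4 : y * (y⁻¹ * e * y) = e * y := by group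
    rw [h4, map_mul, LinearEquiv.mul_apply] at h3
    exact h3
  rcases hD.irr W hWinv with hb | ht
  · -- no fixed points on `U`
    apply φ.injective
    rw [map_zero]
    funext j
    have : φ v j ∈ W := by
      intro e he
      rw [← hD.eq e v j, hv _ he]
    rw [hb, Submodule.mem_bot] at this
    exact this
  · exfalso
    have htriv : ∀ e ∈ E i, e = 1 := by
      intro e he
      apply LinearEquiv.ext
      intro z
      change e z = z
      apply φ.injective
      funext j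
      have h1 := hD.eq ⟨e, hEY i he⟩ z j
      have h2 : φ z j ∈ W := by rw [ht]; trivial
      rw [h2 ⟨e, hEY i he⟩ he] at h1
      exact h1
    obtain ⟨a, b, hab⟩ := hS.Enab i
    obtain ⟨a, rfl⟩ := QuotientGroup.mk_surjective a
    obtain ⟨b, rfl⟩ := QuotientGroup.mk_surjective b
    apply hab
    have ha : a = 1 := Subtype.ext (htriv _ a.2)
    have hb : b = 1 := Subtype.ext (htriv _ b.2)
    rw [ha, hb]

/-- abelian normal subgroups are semiregular -/
theorem semireg (X : Subgroup (V ≃ₗ[ZMod p] V)) (hD1 : HD1 X)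
    (A : Subgroup (V ≃ₗ[ZMod p] V)) (hAX : A ≤ X) (hA : ∀ x ∈ X, ∀ y ∈ A, x * y * x⁻¹ ∈ A)
    (hab : ∀ x ∈ A, ∀ y ∈ A, x * y = y * x) (a : V ≃ₗ[ZMod p] V) (ha : a ∈ A) (ha1 : a ≠ 1)
    (v : V) (hv : a v = v) : v = 0 := by
  obtain ⟨U, _, _, M, ρ, φ, hD⟩ := hD1 A hAX hA
  let W : Submodule (ZMod p) U :=
    { carrier := {u | ρ ⟨a, ha⟩ u = u}
      add_mem' := by
        intro b c hb hc
        change ρ ⟨a, ha⟩ (b + c) = b + c
        rw [map_add, show ρ ⟨a, ha⟩ b = b from hb, show ρ ⟨a, ha⟩ c = c from hc]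
      zero_mem' := map_zero _
      smul_mem' := by
        intro c b hb
        change ρ ⟨a, ha⟩ (c • b) = c • b
        rw [map_smul, show ρ ⟨a, ha⟩ b = b from hb] }
  have hWinv : ∀ (e : A), ∀ w ∈ W, ρ e w ∈ W := by
    intro e w hw
    change ρ ⟨a, ha⟩ (ρ e w) = ρ e w
    have h1 : (⟨a, ha⟩ : A) * e = e * ⟨a, ha⟩ := Subtype.ext (hab a ha e e.2)
    rw [← LinearEquiv.mul_apply, ← map_mul, h1, map_mul, LinearEquiv.mul_apply, show ρ ⟨a, ha⟩ w = w from hw]
  rcases hD.irr W hWinv with hb | ht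
  · apply φ.injective
    rw [map_zero]
    funext j
    have : φ v j ∈ W := by
      change ρ ⟨a, ha⟩ (φ v j) = φ v j
      rw [← hD.eq ⟨a, ha⟩ v j]
      change φ (a v) j = φ v j
      rw [hv]
    rw [hb, Submodule.mem_bot] at this
    exact this
  · exfalso
    apply ha1
    apply LinearEquiv.ext
    intro z
    change a z = z
    apply φ.injective
    funext j
    have h1 := hD.eq ⟨a, ha⟩ z j
    have h2 : φ z j ∈ W := by rw [ht]; trivial
    rw [show ρ ⟨a, ha⟩ (φ z j) = φ z j from h2] at h1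
    exact h1

/-- D4 modulo D1 -/
theorem big_support_of_D1 [Finite V] (X : Subgroup (V ≃ₗ[ZMod p] V)) (hD1 : HD1 X)
    (A C R : Subgroup (V ≃ₗ[ZMod p] V)) (t : ℕ) (E : Fin t → Subgroup (V ≃ₗ[ZMod p] V))
    (hS : Str X A C R t E) (h2 : ∀ i, ∃ u v : E i ⧸ center (E i), closure {u, v} = ⊤)
    (x : V ≃ₗ[ZMod p] V) (hx : x ∈ X)
    (hcase : (∃ a ∈ A, x * a ≠ a * x) ∨ (∃ r ∈ R, x * r ≠ r * x) ∨
      (∃ i, ∃ y ∈ E i, x * y * x⁻¹ ∉ E i)) :
    Nat.card {v : V // x v = v} ^ 6 ≤ Nat.card V ^ 5 :=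
  big_support_of X A C R t E hS h2
    (fun a ha ha1 v hv => semireg X hD1 A (hS.AR.trans (hS.RC.trans hS.CX)) hS.Anorm hS.Acomm a ha ha1 v hv)
    (fun i v hv => comp_fix X hD1 A C R t E hS i v hv) x hx hcase

end Cfsg.Agent.H223.B57
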