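import Cfsg.Agent.H223.B57.CompFix
import Cfsg.Agent.H594.B57.HomDecNormal

set_option autoImplicit false

open Subgroup

namespace Cfsg.Agent.H223.B57

open Cfsg.Agent.H830.B57

variable {p : ℕ} [Fact p.Prime] {V : Type} [AddCommGroup V] [Module (ZMod p) V]

/-- D4: elements which do not centralise `A`, or act nontrivially on `R`, or move a component,
have a large support -/
theorem big_support [Finite V] (X : Subgroup (V ≃ₗ[ZMod p] V)) (hX : PrimLin X)
    (A C R : Subgroup (V ≃ₗ[ZMod p] V)) (t : ℕ) (E : Fin t → Subgroup (V ≃ₗ[ZMod p] V))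
    (hS : Str X A C R t E) (h2 : ∀ i, ∃ u v : E i ⧸ center (E i), closure {u, v} = ⊤)
    (x : V ≃ₗ[ZMod p] V) (hx : x ∈ X)
    (hcase : (∃ a ∈ A, x * a ≠ a * x) ∨ (∃ r ∈ R, x * r ≠ r * x) ∨
      (∃ i, ∃ y ∈ E i, x * y * x⁻¹ ∉ E i)) :
    Nat.card {v : V // x v = v} ^ 6 ≤ Nat.card V ^ 5 :=
  big_support_of_D1 X (fun Y hYX hY => Cfsg.Agent.H594.B57.homDec_of_normal X hX Y hYX hY)
    A C R t E hS h2 x hx hcase


end Cfsg.Agent.H223.B57
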